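import Mathlib
import Groth.Prelude.Def_EGA4b
import Groth.Prelude.Def_CAlg2
import Groth.Agent.Lib.Helper8.GeoConnFib.Unibranch

/-!
# Connected generic fibres over a geometrically unibranch base: algebraic part for S5045
-/

namespace Groth.Agent.H8.GCF
open TensorProduct IsLocalRing CategoryTheory CategoryTheory.Limits AlgebraicGeometry Polynomial
open Groth.Agent.H8.NBC
universe u

/-- the fibre over the nilradical (generic point) is connected -/
theorem isConnected_fibre_nilradical (A B : Type u) [CommRing A] [IsLocalRing A]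
    [IsNoetherianRing A] [CommRing B] [IsLocalRing B] [Algebra A B] [IsLocalHom (algebraMap A B)]
    [Module.Flat A B]
    (hred : ∀ (κ : Type u) [Field κ] [Algebra A κ], _root_.IsReduced (B ⊗[A] κ))
    (hA : CAlg2.IsGeomUnibranch A) [hξp : (nilradical A).IsPrime] :
    _root_.IsConnected (PrimeSpectrum.comap (algebraMap A B) ⁻¹'
      {(⟨nilradical A, hξp⟩ : PrimeSpectrum A)}) := by
  haveI hdom : IsDomain (CAlg2.red A) := hA.1.1
  let ξ : PrimeSpectrum A := ⟨nilradical A, hξp⟩
  let eK : FractionRing (CAlg2.red A) ≃ₐ[A] (nilradical A).ResidueField :=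
    (IsLocalization.algEquiv (nonZeroDivisors (CAlg2.red A)) (FractionRing (CAlg2.red A))
      (nilradical A).ResidueField).restrictScalars A
  let eT : B ⊗[A] FractionRing (CAlg2.red A) ≃+* (nilradical A).ResidueField ⊗[A] B :=
    ((Algebra.TensorProduct.congr (AlgEquiv.refl : B ≃ₐ[A] B) eK).trans
      (Algebra.TensorProduct.comm A B _)).toRingEquiv
  haveI : Module.FaithfullyFlat A B := Module.FaithfullyFlat.of_flat_of_isLocalHom
  haveI : Nontrivial ((nilradical A).ResidueField ⊗[A] B) := inferInstance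
  haveI hconn : ConnectedSpace (PrimeSpectrum ((nilradical A).ResidueField ⊗[A] B)) :=
    SF.connectedSpace_of_idem _ (fun x hx => idem_of_ringEquiv eT.symm
      (fun y hy => idem_trivial_unibranch A B hred hA y hy) x hx)
  haveI : ConnectedSpace ↥(PrimeSpectrum.comap (algebraMap A B) ⁻¹' {ξ}) :=
    (PrimeSpectrum.preimageHomeomorphFiber A B ξ).connectedSpace_iff.mpr hconn
  exact isConnected_iff_connectedSpace.mpr inferInstance

/-- **Affine local-base case**: for a flat `A`-algebra `R'` with reduced fibres and a prime `p'`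
over the maximal ideal, the set of primes `q ≤ p'` over the generic point of `A` is connected and
every prime `q₁ ≤ p'` contains one of them. -/
theorem exists_connected_generic (A R' : Type u) [CommRing A] [IsLocalRing A] [IsNoetherianRing A]
    [CommRing R'] [Algebra A R'] [Module.Flat A R']
    (hredR : ∀ (κ : Type u) [Field κ] [Algebra A κ], _root_.IsReduced (R' ⊗[A] κ))
    (hA : CAlg2.IsGeomUnibranch A) (p' : Ideal R') [p'.IsPrime]
    (hp' : p'.comap (algebraMap A R') = maximalIdeal A) :
    ∃ G : Set (PrimeSpectrum R'), _root_.IsConnected G ∧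
      (∀ g ∈ G, g.asIdeal ≤ p' ∧ g.asIdeal.comap (algebraMap A R') = nilradical A) ∧
      (∀ q₁ : PrimeSpectrum R', q₁.asIdeal ≤ p' → ∃ g ∈ G, g ≤ q₁) := by
  haveI hdom : IsDomain (CAlg2.red A) := hA.1.1
  haveI hξp : (nilradical A).IsPrime := (Ideal.Quotient.isDomain_iff_prime _).mp hdom
  let B' := Localization.AtPrime p'
  haveI : Module.Flat R' B' := IsLocalization.flat B' p'.primeCompl
  haveI : Module.Flat A B' := Module.Flat.trans A R' B'
  have hmax : (maximalIdeal B').comap (algebraMap R' B') = p' :=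
    IsLocalization.AtPrime.comap_maximalIdeal B' p'
  haveI : IsLocalHom (algebraMap A B') := by
    refine ((IsLocalRing.local_hom_TFAE (algebraMap A B')).out 0 4 rfl rfl).mpr ?_
    rw [IsScalarTower.algebraMap_eq A R' B', ← Ideal.comap_comap, hmax, hp']
  -- reducedness of the fibres of `B'`
  have hred : ∀ (κ : Type u) [Field κ] [Algebra A κ], _root_.IsReduced (B' ⊗[A] κ) := by
    intro κ _ _
    haveI := hredR κ
    haveI h1 : IsLocalization (Algebra.algebraMapSubmonoid (R' ⊗[A] κ) p'.primeCompl)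
        ((R' ⊗[A] κ) ⊗[R'] B') := inferInstance
    haveI h2 : _root_.IsReduced ((R' ⊗[A] κ) ⊗[R'] B') :=
      isReduced_localizationPreserves (Algebra.algebraMapSubmonoid (R' ⊗[A] κ) p'.primeCompl)
        ((R' ⊗[A] κ) ⊗[R'] B') inferInstance
    let e : B' ⊗[A] κ ≃+* (R' ⊗[A] κ) ⊗[R'] B' :=
      ((Algebra.TensorProduct.cancelBaseChange A R' R' B' κ).symm.trans
        (Algebra.TensorProduct.comm R' B' (R' ⊗[A] κ))).toRingEquiv
    exact isReduced_of_injective e.toRingHom e.injective
  have hF := isConnected_fibre_nilradical A B' hred hA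
  set F : Set (PrimeSpectrum B') := PrimeSpectrum.comap (algebraMap A B') ⁻¹'
      {(⟨nilradical A, hξp⟩ : PrimeSpectrum A)} with hFdef
  refine ⟨PrimeSpectrum.comap (algebraMap R' B') '' F,
    hF.image _ (PrimeSpectrum.continuous_comap _).continuousOn, ?_, ?_⟩
  · rintro _ ⟨Q, hQ, rfl⟩
    constructor
    · have h1 : PrimeSpectrum.comap (algebraMap R' B') Q ∈
          Set.range (PrimeSpectrum.comap (algebraMap R' B')) := ⟨Q, rfl⟩
      rw [PrimeSpectrum.localization_comap_range B' p'.primeCompl] at h1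
      intro a ha
      by_contra hap
      exact (Set.disjoint_left.mp h1 (show a ∈ (p'.primeCompl : Set R') from hap)) ha
    · have h2 : PrimeSpectrum.comap (algebraMap A B') Q = ⟨nilradical A, hξp⟩ := hQ
      have h3 : (PrimeSpectrum.comap (algebraMap A B') Q).asIdeal = nilradical A :=
        congrArg PrimeSpectrum.asIdeal h2
      refine Eq.trans ?_ h3
      show Ideal.comap (algebraMap A R') (Ideal.comap (algebraMap R' B') Q.asIdeal) =
        Ideal.comap (algebraMap A B') Q.asIdeal
      rw [Ideal.comap_comap, ← IsScalarTower.algebraMap_eq A R' B']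
  · intro q₁ hq₁
    haveI : (q₁.asIdeal.under A).IsPrime := Ideal.comap_isPrime (algebraMap A R') q₁.asIdeal
    have hle : nilradical A ≤ q₁.asIdeal.under A := nilradical_le_prime _
    obtain ⟨q, hqq₁, hqprime, hqover⟩ := Ideal.exists_ideal_le_liesOver_of_le
      (p := nilradical A) (q := q₁.asIdeal.under A) q₁.asIdeal hle
    have hqp' : q ≤ p' := hqq₁.trans hq₁
    have hdisj : Disjoint (p'.primeCompl : Set R') (q : Set R') :=
      Set.disjoint_left.mpr fun a ha haq => ha (hqp' haq)
    have hQprime : (Ideal.map (algebraMap R' B') q).IsPrime :=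
      IsLocalization.isPrime_of_isPrime_disjoint p'.primeCompl B' q hqprime hdisj
    have hQcomap : (Ideal.map (algebraMap R' B') q).under R' = q :=
      IsLocalization.under_map_of_isPrime_disjoint p'.primeCompl B' hqprime hdisj
    let Q : PrimeSpectrum B' := ⟨Ideal.map (algebraMap R' B') q, hQprime⟩
    have hQF : Q ∈ F := by
      show PrimeSpectrum.comap (algebraMap A B') Q = ⟨nilradical A, hξp⟩
      apply PrimeSpectrum.ext
      show Ideal.comap (algebraMap A B') (Ideal.map (algebraMap R' B') q) = nilradical A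
      rw [IsScalarTower.algebraMap_eq A R' B', ← Ideal.comap_comap]
      have h4 : Ideal.comap (algebraMap R' B') (Ideal.map (algebraMap R' B') q) = q := hQcomap
      rw [h4]
      exact hqover.over.symm
    refine ⟨PrimeSpectrum.comap (algebraMap R' B') Q, ⟨Q, hQF, rfl⟩, ?_⟩
    show Ideal.comap (algebraMap R' B') (Ideal.map (algebraMap R' B') q) ≤ q₁.asIdeal
    have h4 : Ideal.comap (algebraMap R' B') (Ideal.map (algebraMap R' B') q) = q := hQcomap
    rw [h4]
    exact hqq₁

/-- in the spectrum of a Noetherian ring, a point in the closure of an open set has a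
generization in that open set -/
theorem exists_generization_mem_of_mem_closure (R : Type*) [CommRing R] [IsNoetherianRing R]
    (U : Set (PrimeSpectrum R)) (hU : IsOpen U) (P : PrimeSpectrum R) (hP : P ∈ closure U) :
    ∃ Q ∈ U, Q ⤳ P := by
  classical
  obtain ⟨J, hJ⟩ := (PrimeSpectrum.isClosed_iff_zeroLocus_ideal _).mp hU.isClosed_compl
  obtain ⟨s, hs⟩ := (IsNoetherian.noetherian J : J.FG)
  have hUeq : U = ⋃ a ∈ s, (PrimeSpectrum.basicOpen a : Set (PrimeSpectrum R)) := by
    ext Q
    rw [← not_iff_not]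
    have h1 : Q ∉ U ↔ Q ∈ PrimeSpectrum.zeroLocus (J : Set R) := by
      rw [← hJ]; exact Iff.rfl
    rw [h1, PrimeSpectrum.mem_zeroLocus, ← hs]
    simp only [Set.mem_iUnion, not_exists]
    constructor
    · intro h a ha hQa
      exact hQa (h (Ideal.subset_span ha))
    · intro h
      apply Ideal.span_le.mpr
      intro a ha
      by_contra hQa
      exact h a ha hQa
  rw [hUeq, Finset.closure_biUnion] at hP
  simp only [Set.mem_iUnion] at hP
  obtain ⟨a, ha, hPa⟩ := hP
  -- the multiplicative set generated by the complement of `P` and `a`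
  by_cases h0 : (0 : R) ∈ P.asIdeal.primeCompl ⊔ Submonoid.powers a
  · exfalso
    obtain ⟨t, ht, z, ⟨n, rfl⟩, htz⟩ := Submonoid.mem_sup.mp h0
    have hnb : (PrimeSpectrum.basicOpen t : Set (PrimeSpectrum R)) ∈ nhds P :=
      (PrimeSpectrum.basicOpen t).isOpen.mem_nhds ht
    obtain ⟨Q', hQ'1, hQ'2⟩ := mem_closure_iff_nhds.mp hPa _ hnb
    have h1 : t * a ^ n ∈ Q'.asIdeal := by
      have : t * a ^ n = 0 := htz
      rw [this]; exact Q'.asIdeal.zero_mem
    rcases Q'.2.mem_or_mem h1 with h2 | h2
    · exact hQ'1 h2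
    · exact hQ'2 (Q'.2.mem_of_pow_mem n h2)
  · have hdisj : Disjoint ((⊥ : Ideal R) : Set R)
        ((P.asIdeal.primeCompl ⊔ Submonoid.powers a : Submonoid R) : Set R) := by
      rw [Set.disjoint_left]
      intro x hx hxM
      have : x = 0 := hx
      rw [this] at hxM
      exact h0 hxM
    obtain ⟨q, hqprime, -, hqdisj⟩ := Ideal.exists_le_prime_disjoint ⊥ _ hdisj
    let Q : PrimeSpectrum R := ⟨q, hqprime⟩
    have haq : a ∉ q := fun haq => Set.disjoint_left.mp hqdisj haq
      (Submonoid.mem_sup_right (Submonoid.mem_powers a))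
    have hqP : q ≤ P.asIdeal := by
      intro x hxq
      by_contra hxP
      exact Set.disjoint_left.mp hqdisj hxq (Submonoid.mem_sup_left hxP)
    refine ⟨Q, ?_, (PrimeSpectrum.le_iff_specializes Q P).mp hqP⟩
    rw [hUeq]
    simp only [Set.mem_iUnion]
    exact ⟨a, ha, haq⟩

/-- in the spectrum of a Noetherian ring, the closure of a minimal point has nonempty interior -/
theorem exists_open_subset_closure_of_minimal (R : Type*) [CommRing R] [IsNoetherianRing R]
    (P₁ : PrimeSpectrum R) (hmin : ∀ Q : PrimeSpectrum R, Q ⤳ P₁ → P₁ ⤳ Q) :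
    ∃ O : Set (PrimeSpectrum R), IsOpen O ∧ P₁ ∈ O ∧ O ⊆ closure {P₁} := by
  classical
  have hfin : (minimalPrimes R).Finite := minimalPrimes.finite_of_isNoetherianRing R
  let Z : Set (PrimeSpectrum R) :=
    ⋃ P' ∈ (minimalPrimes R \ {P₁.asIdeal}), PrimeSpectrum.zeroLocus (P' : Set R)
  have hZ : IsClosed Z :=
    (hfin.subset Set.diff_subset).isClosed_biUnion fun P' _ => PrimeSpectrum.isClosed_zeroLocus _
  refine ⟨Zᶜ, hZ.isOpen_compl, ?_, ?_⟩
  · intro hP₁
    simp only [Z, Set.mem_iUnion] at hP₁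
    obtain ⟨P', ⟨hP'min, hP'ne⟩, hle⟩ := hP₁
    have hle' : P' ≤ P₁.asIdeal := hle
    haveI : P'.IsPrime := hP'min.1.1
    have h1 : (⟨P', inferInstance⟩ : PrimeSpectrum R) ⤳ P₁ :=
      (PrimeSpectrum.le_iff_specializes _ _).mp hle'
    have h2 := (PrimeSpectrum.le_iff_specializes _ _).mpr (hmin _ h1)
    have h3 : P₁.asIdeal ≤ P' := h2
    exact hP'ne (le_antisymm hle' h3)
  · intro Q hQ
    rw [PrimeSpectrum.closure_singleton, PrimeSpectrum.mem_zeroLocus]
    obtain ⟨P', hP'min, hP'Q⟩ := Ideal.exists_minimalPrimes_le (I := ⊥) (J := Q.asIdeal) bot_le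
    by_cases hP' : P' = P₁.asIdeal
    · rw [← hP']; exact hP'Q
    · exfalso
      apply hQ
      simp only [Z, Set.mem_iUnion]
      exact ⟨P', ⟨hP'min, hP'⟩, hP'Q⟩

end Groth.Agent.H8.GCF
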