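import Mathlib
import Groth.Prelude.Def_EGA4b
import Groth.Prelude.Def_CAlg2
import Groth.Agent.Lib.Helper8.GeoConnFib.UniSchA

/-!
# Connectedness of complements for flat morphisms with geometrically reduced fibres over a base
with geometrically unibranch local rings (S5045, EGA IV 18.9.8)
-/

namespace Groth.Agent.H8.GCF
open TensorProduct IsLocalRing CategoryTheory CategoryTheory.Limits AlgebraicGeometry
universe u

theorem flat_fromSpecStalk' (X : Scheme.{u}) (x : X) : Flat (X.fromSpecStalk x) := by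
  obtain ⟨_, ⟨U, hU, rfl⟩, hxU, -⟩ :=
    X.isBasis_affineOpens.exists_subset_of_mem_open (Set.mem_univ x) isOpen_univ
  rw [← hU.fromSpecStalk_eq_fromSpecStalk hxU, IsAffineOpen.fromSpecStalk]
  have : Flat (Spec.map (X.presheaf.germ U x hxU)) := by
    rw [Flat.SpecMap_iff]
    letI : Algebra Γ(X, U) (X.presheaf.stalk x) := (X.presheaf.germ U x hxU).hom.toAlgebra
    haveI := hU.isLocalization_stalk ⟨x, hxU⟩
    have : Module.Flat Γ(X, U) (X.presheaf.stalk x) :=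
      IsLocalization.flat (X.presheaf.stalk x) (hU.primeIdealOf ⟨x, hxU⟩).asIdeal.primeCompl
    exact this
  have : Flat hU.fromSpec := by
    have := hU.isOpenImmersion_fromSpec
    infer_instance
  infer_instance

theorem geometricallyReduced_comp_of_isOpenImmersion {W Z S : Scheme.{u}} (j : W ⟶ Z)
    [IsOpenImmersion j] (g : Z ⟶ S) [GeometricallyReduced g] : GeometricallyReduced (j ≫ g) := by
  have hg : GeometricallyReduced g := inferInstance
  rw [GeometricallyReduced.eq_geometrically, geometrically_iff_of_isClosedUnderIsomorphisms] at hg ⊢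
  intro K _ t
  haveI : AlgebraicGeometry.IsReduced (pullback g t) := hg K t
  let i : pullback (j ≫ g) t ⟶ pullback g t :=
    pullback.map (j ≫ g) t g t j (𝟙 _) (𝟙 _) (by simp) (by simp)
  haveI : IsOpenImmersion i := inferInstance
  exact isReduced_of_isOpenImmersion i

/-- local connectedness data over a local base -/
theorem exists_connected_over_local (A : Type u) [CommRing A] [IsLocalRing A] [IsNoetherianRing A]
    (hA : CAlg2.IsGeomUnibranch A) [hξp : (nilradical A).IsPrime]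
    {Z : Scheme.{u}} (g : Z ⟶ Spec (CommRingCat.of A)) [Flat g] [GeometricallyReduced g]
    (z : Z) (hz : g z = IsLocalRing.closedPoint A) :
    ∃ C : Set Z, _root_.IsConnected C ∧
      (∀ c ∈ C, c ⤳ z ∧ g c = (⟨nilradical A, hξp⟩ : PrimeSpectrum A)) ∧
      (∀ z₁ : Z, z₁ ⤳ z → ∃ c ∈ C, c ⤳ z₁) := by
  obtain ⟨_, ⟨U, hU, rfl⟩, hzU, -⟩ :=
    Z.isBasis_affineOpens.exists_subset_of_mem_open (Set.mem_univ z) isOpen_univ
  let φ : A →+* Γ(Z, U) := ((Scheme.ΓSpecIso (CommRingCat.of A)).inv ≫ g.appLE ⊤ U le_top).hom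
  letI : Algebra A Γ(Z, U) := φ.toAlgebra
  have hfs : hU.fromSpec ≫ g = Spec.map (CommRingCat.ofHom (algebraMap A Γ(Z, U))) := by
    have h1 := IsAffineOpen.SpecMap_appLE_fromSpec g (isAffineOpen_top _) hU le_top
    rw [← h1]
    have h2 : (isAffineOpen_top (Spec (CommRingCat.of A))).fromSpec =
        Spec.map (Scheme.ΓSpecIso (CommRingCat.of A)).inv := by
      rw [IsAffineOpen.fromSpec_top, Scheme.isoSpec_Spec_inv]
    rw [h2, ← Spec.map_comp]
    rfl
  haveI : IsOpenImmersion hU.fromSpec := hU.isOpenImmersion_fromSpec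
  haveI hfl : Flat (Spec.map (CommRingCat.ofHom (algebraMap A Γ(Z, U)))) := by
    rw [← hfs]; infer_instance
  haveI : Module.Flat A Γ(Z, U) := by
    have h := (Flat.SpecMap_iff).mp hfl
    exact RingHom.flat_algebraMap_iff.mp h
  haveI : GeometricallyReduced (Spec.map (CommRingCat.ofHom (algebraMap A Γ(Z, U)))) := by
    rw [← hfs]; exact geometricallyReduced_comp_of_isOpenImmersion hU.fromSpec g
  have hredR : ∀ (κ : Type u) [Field κ] [Algebra A κ], _root_.IsReduced (Γ(Z, U) ⊗[A] κ) :=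
    fun κ _ _ => hred_of_geometricallyReduced A Γ(Z, U) κ
  let P : PrimeSpectrum Γ(Z, U) := hU.primeIdealOf ⟨z, hzU⟩
  have hP : hU.fromSpec P = z := hU.fromSpec_primeIdealOf ⟨z, hzU⟩
  have hp' : P.asIdeal.comap (algebraMap A Γ(Z, U)) = maximalIdeal A := by
    have h1 : (hU.fromSpec ≫ g) P = IsLocalRing.closedPoint A := by
      rw [Scheme.Hom.comp_apply, hP, hz]
    rw [hfs] at h1
    exact congrArg PrimeSpectrum.asIdeal h1
  obtain ⟨G, hGconn, hG1, hG2⟩ := exists_connected_generic A Γ(Z, U) hredR hA P.asIdeal hp'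
  refine ⟨hU.fromSpec '' G, hGconn.image _ hU.fromSpec.continuous.continuousOn, ?_, ?_⟩
  · rintro _ ⟨q, hq, rfl⟩
    obtain ⟨hq1, hq2⟩ := hG1 q hq
    constructor
    · rw [← hP]
      exact ((PrimeSpectrum.le_iff_specializes q P).mp hq1).map hU.fromSpec.continuous
    · rw [← Scheme.Hom.comp_apply, hfs]
      apply PrimeSpectrum.ext
      exact hq2
  · intro z₁ hz₁
    have hz₁U : z₁ ∈ U := hz₁.mem_open U.isOpen hzU
    let Q₁ : PrimeSpectrum Γ(Z, U) := hU.primeIdealOf ⟨z₁, hz₁U⟩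
    have hQ₁ : hU.fromSpec Q₁ = z₁ := hU.fromSpec_primeIdealOf ⟨z₁, hz₁U⟩
    have hspec : Q₁ ⤳ P :=
      (hU.fromSpec.isOpenEmbedding.isInducing.specializes_iff).mp (by rw [hQ₁, hP]; exact hz₁)
    obtain ⟨q, hq, hqQ₁⟩ := hG2 Q₁ ((PrimeSpectrum.le_iff_specializes Q₁ P).mpr hspec)
    refine ⟨hU.fromSpec q, ⟨q, hq, rfl⟩, ?_⟩
    rw [← hQ₁]
    exact ((PrimeSpectrum.le_iff_specializes q Q₁).mp hqQ₁).map hU.fromSpec.continuous

/-- local connectedness data at a point of `X` -/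
theorem exists_connected_generic_sch {X Y : Scheme.{u}} [IsLocallyNoetherian Y] (f : X ⟶ Y)
    [Flat f] [GeometricallyReduced f] (x : X)
    (hY : CAlg2.IsGeomUnibranch (Y.presheaf.stalk (f x)))
    [hξp : (nilradical (Y.presheaf.stalk (f x))).IsPrime] :
    ∃ C : Set X, _root_.IsConnected C ∧
      (∀ c ∈ C, c ⤳ x ∧ f c = Y.fromSpecStalk (f x) ⟨nilradical _, hξp⟩) ∧
      (∀ x₁ : X, x₁ ⤳ x → ∃ c ∈ C, c ⤳ x₁) := by
  let s : Spec (CommRingCat.of (Y.presheaf.stalk (f x))) ⟶ Y := Y.fromSpecStalk (f x)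
  haveI : Flat s := flat_fromSpecStalk' Y (f x)
  obtain ⟨z, hz1, hz2⟩ := Scheme.Pullback.exists_preimage_pullback (f := f) (g := s) x
    (IsLocalRing.closedPoint (Y.presheaf.stalk (f x))) (Scheme.fromSpecStalk_closedPoint).symm
  obtain ⟨C, hC, hC1, hC2⟩ := exists_connected_over_local (Y.presheaf.stalk (f x)) hY
    (pullback.snd f s) z hz2
  refine ⟨pullback.fst f s '' C, hC.image _ (pullback.fst f s).continuous.continuousOn, ?_, ?_⟩
  · rintro _ ⟨c, hc, rfl⟩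
    obtain ⟨h1, h2⟩ := hC1 c hc
    refine ⟨(h1.map (pullback.fst f s).continuous).trans (specializes_of_eq hz1), ?_⟩
    calc f (pullback.fst f s c) = (pullback.fst f s ≫ f) c := (Scheme.Hom.comp_apply _ _ _).symm
      _ = (pullback.snd f s ≫ s) c := by rw [pullback.condition]
      _ = s (pullback.snd f s c) := Scheme.Hom.comp_apply _ _ _
      _ = s ⟨nilradical _, hξp⟩ := by rw [h2]
  · intro x₁ hx₁
    haveI : Flat (pullback.fst f s) := inferInstance
    have hgen : GeneralizingMap (pullback.fst f s) := Flat.generalizingMap (pullback.fst f s)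
    obtain ⟨z₁, hz₁, hz₁x⟩ := hgen (show x₁ ⤳ pullback.fst f s z from
      hx₁.trans (specializes_of_eq hz1.symm))
    obtain ⟨c, hc, hcz₁⟩ := hC2 z₁ hz₁
    exact ⟨pullback.fst f s c, ⟨c, hc, rfl⟩, by
      rw [← hz₁x]; exact hcz₁.map (pullback.fst f s).continuous⟩

theorem exists_generization_mem_of_mem_closure_sch {X : Scheme.{u}} [IsLocallyNoetherian X]
    (U : Set X) (hU : IsOpen U) (x : X) (hx : x ∈ closure U) : ∃ x' ∈ U, x' ⤳ x := by
  obtain ⟨_, ⟨N, hN, rfl⟩, hxN, -⟩ :=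
    X.isBasis_affineOpens.exists_subset_of_mem_open (Set.mem_univ x) isOpen_univ
  haveI : IsNoetherianRing Γ(X, N) := IsLocallyNoetherian.component_noetherian ⟨N, hN⟩
  haveI : IsOpenImmersion hN.fromSpec := hN.isOpenImmersion_fromSpec
  let P : PrimeSpectrum Γ(X, N) := hN.primeIdealOf ⟨x, hxN⟩
  have hP : hN.fromSpec P = x := hN.fromSpec_primeIdealOf ⟨x, hxN⟩
  have hcl : P ∈ closure (hN.fromSpec ⁻¹' U) := by
    rw [← hN.fromSpec.isOpenEmbedding.isOpenMap.preimage_closure_eq_closure_preimage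
      hN.fromSpec.continuous]
    show hN.fromSpec P ∈ closure U
    rw [hP]; exact hx
  obtain ⟨Q, hQU, hQP⟩ := exists_generization_mem_of_mem_closure Γ(X, N) _
    (hU.preimage hN.fromSpec.continuous) P hcl
  exact ⟨hN.fromSpec Q, hQU, by rw [← hP]; exact hQP.map hN.fromSpec.continuous⟩

theorem nonempty_interior_closure_of_minimal {Y : Scheme.{u}} [IsLocallyNoetherian Y] (η : Y)
    (hmin : ∀ z : Y, z ⤳ η → η ⤳ z) : (interior (closure ({η} : Set Y))).Nonempty := by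
  obtain ⟨_, ⟨V, hV, rfl⟩, hηV, -⟩ :=
    Y.isBasis_affineOpens.exists_subset_of_mem_open (Set.mem_univ η) isOpen_univ
  haveI : IsNoetherianRing Γ(Y, V) := IsLocallyNoetherian.component_noetherian ⟨V, hV⟩
  haveI : IsOpenImmersion hV.fromSpec := hV.isOpenImmersion_fromSpec
  let P₁ : PrimeSpectrum Γ(Y, V) := hV.primeIdealOf ⟨η, hηV⟩
  have hP₁ : hV.fromSpec P₁ = η := hV.fromSpec_primeIdealOf ⟨η, hηV⟩
  have hminP : ∀ Q : PrimeSpectrum Γ(Y, V), Q ⤳ P₁ → P₁ ⤳ Q := by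
    intro Q hQ
    have h1 : hV.fromSpec Q ⤳ η := by rw [← hP₁]; exact hQ.map hV.fromSpec.continuous
    have h2 := hmin _ h1
    rw [← hP₁] at h2
    exact (hV.fromSpec.isOpenEmbedding.isInducing.specializes_iff).mp h2
  obtain ⟨O, hO, hP₁O, hOcl⟩ := exists_open_subset_closure_of_minimal Γ(Y, V) P₁ hminP
  refine ⟨η, ?_⟩
  rw [mem_interior]
  refine ⟨hV.fromSpec '' O, ?_, hV.fromSpec.isOpenEmbedding.isOpenMap O hO, ⟨P₁, hP₁O, hP₁⟩⟩
  rintro _ ⟨Q, hQ, rfl⟩
  have h1 : Q ∈ closure {P₁} := hOcl hQ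
  have h2 := image_closure_subset_closure_image hV.fromSpec.continuous ⟨Q, h1, rfl⟩
  have h3 : (⇑hV.fromSpec '' {P₁}) ⊆ {η} := by
    rintro _ ⟨Q', hQ', rfl⟩
    have : Q' = P₁ := hQ'
    rw [this]; exact hP₁
  exact closure_mono h3 h2

theorem fromSpecStalk_nilradical_minimal (Y : Scheme.{u}) (y : Y)
    [hξp : (nilradical (Y.presheaf.stalk y)).IsPrime] (z : Y)
    (hz : z ⤳ Y.fromSpecStalk y ⟨nilradical _, hξp⟩) :
    Y.fromSpecStalk y ⟨nilradical _, hξp⟩ ⤳ z := by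
  set ξ : PrimeSpectrum (Y.presheaf.stalk y) := ⟨nilradical _, hξp⟩ with hξ
  have h1 : Y.fromSpecStalk y ξ ⤳ y := by
    have : Y.fromSpecStalk y ξ ∈ Set.range (Y.fromSpecStalk y) := ⟨ξ, rfl⟩
    rwa [Scheme.range_fromSpecStalk] at this
  have h2 : z ∈ Set.range (Y.fromSpecStalk y) := by
    rw [Scheme.range_fromSpecStalk]; exact hz.trans h1
  obtain ⟨ζ, rfl⟩ := h2
  have h3 : ζ ⤳ ξ := ((Y.fromSpecStalk y).isEmbedding.isInducing.specializes_iff).mp hz
  have h4 : ζ.asIdeal ≤ ξ.asIdeal := (PrimeSpectrum.le_iff_specializes ζ ξ).mpr h3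
  have h5 : ξ.asIdeal ≤ ζ.asIdeal := nilradical_le_prime ζ.asIdeal
  have h6 : ζ = ξ := PrimeSpectrum.ext (le_antisymm h4 h5)
  rw [h6]

/-- **S5045**. -/
theorem s5045 {X Y : Scheme.{u}} [IsLocallyNoetherian X] [IsLocallyNoetherian Y]
    [ConnectedSpace ↥X] (hY : ∀ y : Y, CAlg2.IsGeomUnibranch (Y.presheaf.stalk y))
    (f : X ⟶ Y) [Flat f] [GeometricallyReduced f]
    (T : Set ↥X) (hT : IsClosed T) (hT' : interior (closure (f.base '' T)) = ∅) :
    _root_.IsConnected Tᶜ := by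
  have hloc : ∀ x : X, ∃ C : Set X, _root_.IsConnected C ∧ C ⊆ Tᶜ ∧ (∀ c ∈ C, c ⤳ x) ∧
      (∀ x₁ : X, x₁ ⤳ x → ∃ c ∈ C, c ⤳ x₁) := by
    intro x
    haveI hdom : IsDomain (CAlg2.red (Y.presheaf.stalk (f x))) := (hY (f x)).1.1
    haveI hξp : (nilradical (Y.presheaf.stalk (f x))).IsPrime :=
      (Ideal.Quotient.isDomain_iff_prime _).mp hdom
    obtain ⟨C, hC, hC1, hC2⟩ := exists_connected_generic_sch f x (hY (f x))
    refine ⟨C, hC, ?_, fun c hc => (hC1 c hc).1, hC2⟩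
    intro c hc hcT
    have hη := (hC1 c hc).2
    have h1 : Y.fromSpecStalk (f x) ⟨nilradical _, hξp⟩ ∈ f.base '' T := ⟨c, hcT, hη⟩
    have h2 := nonempty_interior_closure_of_minimal _
      (fromSpecStalk_nilradical_minimal Y (f x))
    have h3 : interior (closure {Y.fromSpecStalk (f x) ⟨nilradical _, hξp⟩}) ⊆
        interior (closure (f.base '' T)) :=
      interior_mono (closure_mono (Set.singleton_subset_iff.mpr h1))
    rw [hT'] at h3
    exact (h2.mono h3).ne_empty rfl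
  choose C hCconn hCT hCspec hCgen using hloc
  have hdense : ∀ x : X, x ∈ closure Tᶜ := by
    intro x
    obtain ⟨c, hc⟩ := (hCconn x).nonempty
    exact closure_mono (Set.singleton_subset_iff.mpr (hCT x hc))
      (specializes_iff_mem_closure.mp (hCspec x c hc))
  refine ⟨?_, ?_⟩
  · obtain ⟨x⟩ : Nonempty X := inferInstance
    obtain ⟨c, hc⟩ := (hCconn x).nonempty
    exact ⟨c, hCT x hc⟩
  · intro u v hu hv huv hau hbv
    obtain ⟨a, haT, hau⟩ := hau
    obtain ⟨b, hbT, hbv⟩ := hbv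
    by_contra hempty
    rw [Set.not_nonempty_iff_eq_empty] at hempty
    have hU₁ : IsOpen (Tᶜ ∩ u) := hT.isOpen_compl.inter hu
    have hU₂ : IsOpen (Tᶜ ∩ v) := hT.isOpen_compl.inter hv
    have hcover : (Set.univ : Set X) ⊆ closure (Tᶜ ∩ u) ∪ closure (Tᶜ ∩ v) := by
      intro x _
      have h1 : x ∈ closure ((Tᶜ ∩ u) ∪ (Tᶜ ∩ v)) := by
        have h2 : Tᶜ ⊆ (Tᶜ ∩ u) ∪ (Tᶜ ∩ v) := fun t ht =>
          (huv ht).imp (fun h => ⟨ht, h⟩) (fun h => ⟨ht, h⟩)
        exact closure_mono h2 (hdense x)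
      rwa [closure_union] at h1
    obtain ⟨x, -, hx1, hx2⟩ := isPreconnected_closed_iff.mp isPreconnected_univ _ _
      isClosed_closure isClosed_closure hcover
      ⟨a, trivial, subset_closure ⟨haT, hau⟩⟩ ⟨b, trivial, subset_closure ⟨hbT, hbv⟩⟩
    obtain ⟨x₁, hx₁U, hx₁⟩ := exists_generization_mem_of_mem_closure_sch _ hU₁ x hx1
    obtain ⟨x₂, hx₂U, hx₂⟩ := exists_generization_mem_of_mem_closure_sch _ hU₂ x hx2
    obtain ⟨c₁, hc₁, hc₁x₁⟩ := hCgen x x₁ hx₁
    obtain ⟨c₂, hc₂, hc₂x₂⟩ := hCgen x x₂ hx₂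
    have hc₁u : c₁ ∈ u := hc₁x₁.mem_open hu hx₁U.2
    have hc₂v : c₂ ∈ v := hc₂x₂.mem_open hv hx₂U.2
    obtain ⟨w, hwC, hwu, hwv⟩ := (hCconn x).isPreconnected u v hu hv ((hCT x).trans huv)
      ⟨c₁, hc₁, hc₁u⟩ ⟨c₂, hc₂, hc₂v⟩
    have hw : w ∈ Tᶜ ∩ (u ∩ v) := ⟨hCT x hwC, hwu, hwv⟩
    rw [hempty] at hw
    exact hw

end Groth.Agent.H8.GCF
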